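import Cfsg.Agent.Lib.Sporadic.PairEnum.Sound

set_option autoImplicit false
set_option maxRecDepth 20000

/-! Generated certificate: an inconsistent extension (tools/cosetbound/gen_pairs.py; owner: helper21). -/

namespace CfsgLib.Recog.HsTwoLocal.Certs.MBad6
open CfsgLib.Recog.SporBound (Q)

noncomputable def ft0 : Q (ℕ) := (.leaf 0x700000f0000500006f0000f00010f0001800019f0002200021f0001f0002560002100025500020000247000230002450001c0002320001e0002130001f0002030001a000204000190001f4000150001d5000130001b5000170001a4000160001940000a0001440000b00012300012000143000060000e50000b0000d2000090000c3000050000760001d0002530001b0002420001a000237000190002260001800021600017000205000160001f5000150001e3000140001d7000130001c2000120001b6000110001a3000100001920000f0001820000e0001730000e0001620000a0001570000900014200008000136000080001240000600011300006000102000050000f2000040000e7000040000d3000040000c2000030000b4000030000a3000020000940000200008200001000070000000000670000000005600000000044000000000330000000002200000000010)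
noncomputable def ct0 : Q (ℕ) := (.leaf 0)
noncomputable def st0 : Q (List ℕ) := (.leaf [0x40000000006000000000300007000000000b, 0x800001000030000b00000000040000c0000100005, 0xa00002000030000c00000000040000d0000400013, 0x5000030000d00000000030000e0000200018, 0x110000700008000130000000004000140000100005, 0x29000270000c0000b00026000130000100005000140000000011, 0x29000090000a0002a0000100003000120000400013, 0x15000280000f000180000000004000190000000005, 0x1600028000100001900000000040001a0000300013, 0x12000110001a00000000030001b0000000018, 0x140002b0001c00000000030001d0000200018, 0x2c0001e00000000020001f0000000004, 0x2d0001f0000000002000200000000004, 0x1e00015000160001f0000000004000200000200013, 0x1d000140000900002000040000e0001700020000000000800021000000001b, 0x1b00012000070000100005000100001900022000000000800023000020000d, 0x340001b0002e000230000000004000240000100013, 0x310002200035000000000300024000020000a, 0x330001d0002f000240000000004000250000300005, 0x3200036000230001a000290001c00024000000000700025000000000c, 0x370002100030000380000100003000250000000018, 0x2000039000210000000003000190000000022, 0x170003a00018000000000300010000000001e, 0xe0003b0000f000000000300006000000001e, 0x250003c000050000000003000000000000023])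
noncomputable def et0 : Q (List ℕ) := (.leaf [])

end CfsgLib.Recog.HsTwoLocal.Certs.MBad6
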